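import Mathlib
import Cfsg.Agent.Base
import Cfsg.Agent.Lib.Term.StdC

/-! # A 2-central involution all of whose other conjugates invert a square root of it, IV -/

set_option autoImplicit false
set_option linter.unusedSectionVars false

namespace H69.TM

open Subgroup Cfsg H69 Gold H45
open scoped commutatorElement

universe u

variable {G : Type u} [Group G] [Finite G]

/-- The elements centralizing `z` and centralizing `s` modulo `z`. -/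
def cst (z s : G) (hz : z * z = 1) : Subgroup G where
  carrier := {g | g * z * g⁻¹ = z ∧ (g * s * g⁻¹ = s ∨ g * s * g⁻¹ = s * z)}
  one_mem' := by simp
  mul_mem' := by
    rintro a b ⟨ha, ha'⟩ ⟨hb, hb'⟩
    have e : ∀ t, a * b * t * (a * b)⁻¹ = a * (b * t * b⁻¹) * a⁻¹ := fun t => by group
    refine ⟨by rw [e, hb, ha], ?_⟩
    rw [e]
    rcases hb' with e1 | e1 <;> rw [e1]
    · exact ha'
    · rw [← conj_mul, ha]
      rcases ha' with e2 | e2 <;> rw [e2]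
      · exact Or.inr rfl
      · exact Or.inl (by rw [mul_assoc, hz, mul_one])
  inv_mem' := by
    rintro a ⟨ha, ha'⟩
    have h1 : a⁻¹ * z * a⁻¹⁻¹ = z := by nth_rw 1 [← ha]; group
    refine ⟨h1, ?_⟩
    rcases ha' with e | e
    · left; nth_rw 1 [← e]; group
    · right
      have : s = a * s * a⁻¹ * z := by rw [e, mul_assoc, hz, mul_one]
      nth_rw 1 [this]
      rw [← conj_mul, h1]; group

/-- The configuration with the quaternion group `⟨b, x⟩`. -/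
structure CX (S A : Subgroup G) (z u y b w x : G) : Prop extends CW S A z u y b w where
  hx : Om S z w x
  xn : x ∉ zpowers b

namespace CX

variable {S A : Subgroup G} {z u y b w x : G} (h : CX S A z u y b w x)
include h

theorem xi {γ : G} (hγ : γ ∈ zpowers b) : x * γ * x⁻¹ = γ⁻¹ := h.om_invb h.hx h.xn hγ

theorem memQ {q : G} : q ∈ zpowers b ⊔ zpowers x ↔ q ∈ zpowers b ∨ q * x⁻¹ ∈ zpowers b :=
  mem_sup_zp (mem_norm_zpowers (h.nb h.hx.1 (mem_zpowers b))) (by rw [h.om_sq h.hx]; exact h.zb)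

theorem memQ' {q : G} : q ∈ zpowers b ⊔ zpowers x ↔ q ∈ zpowers b ∨ Om S z w q := by
  rw [h.memQ]
  refine ⟨fun hq => hq.imp_right fun e => by simpa using h.om_mul h.hx h.xn e, fun hq => ?_⟩
  by_cases e : q ∈ zpowers b
  · exact Or.inl e
  · exact Or.inr (h.om_cov h.hx h.xn (hq.resolve_left e) e)

theorem QS : zpowers b ⊔ zpowers x ≤ S ⊓ A :=
  sup_le (fun _ hq => mem_inf.2 ⟨h.mS hq, h.bA h.hx h.xn hq⟩)
    (zpowers_le.2 (mem_inf.2 ⟨h.hx.1, h.om_A h.hx⟩))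

theorem zQ : z ∈ zpowers b ⊔ zpowers x := mem_sup_left h.zb

theorem SNQ : S ≤ 𝐍(zpowers b ⊔ zpowers x) :=
  le_normalizer_of_cj_le fun s hs q hq => by
    obtain ⟨q, hq', rfl⟩ := mem_cj'.1 hq
    exact h.memQ'.2 ((h.memQ'.1 hq').imp (h.nb hs) fun e => h.om_conj e hs)

theorem Qinv {q : G} (hq : q ∈ zpowers b ⊔ zpowers x) (h2 : q * q = 1) : q = 1 ∨ q = z := by
  rcases h.memQ'.1 hq with e | e
  · exact h.inv2 e h2
  · exact absurd ((h.om_sq e).symm.trans h2) h.z1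

theorem om_of_sq {q : G} (hq : q ∈ zpowers b ⊔ zpowers x) (h2 : q * q = z) : Om S z w q := by
  rcases h.memQ'.1 hq with e | e
  · rcases h.sq_z e h2 with rfl | rfl
    · exact h.om_w
    · rw [← h.mi h.wb]; exact h.om_conj h.om_w h.yS
  · exact e

theorem Qsc {q g : G} (hq : q ∈ zpowers b ⊔ zpowers x) (hg : g ∈ 𝐂[z]) (hS : g * q * g⁻¹ ∈ S) :
    g * q * g⁻¹ ∈ zpowers b ⊔ zpowers x := by
  refine El2.induction (P := fun q => q ∈ zpowers b ⊔ zpowers x → g * q * g⁻¹ ∈ S →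
    g * q * g⁻¹ ∈ zpowers b ⊔ zpowers x) (fun _ _ => by simp) (fun q _ ih hq hS => ?_)
    (h.el2 (h.QS hq).1) hq hS
  by_cases h4 : q * q * (q * q) = 1
  · rcases h.Qinv (mul_mem hq hq) h4 with e | e
    · rcases h.Qinv hq e with rfl | rfl
      · simp
      · rw [h.cz hg]; exact h.zQ
    · exact h.memQ'.2 (Or.inr ((h.om_of_sq hq e).conj hg hS))
  have hb : q ∈ zpowers b := (h.memQ'.1 hq).resolve_right fun e => h4 (by rw [h.om_sq e, h.zz])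
  have h1 := ih (mul_mem hq hq) (by rw [← conj_mul]; exact mul_mem hS hS)
  rw [← conj_mul] at h1
  have h2 : g * q * g⁻¹ * (g * q * g⁻¹) ∈ zpowers b := by
    by_contra hn
    have e := h.om_inv ((h.memQ'.1 h1).resolve_left hn) hn
    refine h.w_ne (Eq.trans ?_ e)
    have : ∀ s, s * s * w * (s * s)⁻¹ = s * (s * w * s⁻¹) * s⁻¹ := fun s => by group
    rw [this]
    rcases h.wn hS with e' | e'
    · rw [e', e']
    · rw [e', conj_inv_of e', inv_inv]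
  refine mem_sup_left (h.sc1 hb hg hS (h.sc2 hS h2 fun e => h4 ?_))
  rw [conj_mul, conj_mul] at e
  simpa using e

theorem Qcj {g : G} (hg : g ∈ 𝐂[z]) (hS : (zpowers b ⊔ zpowers x) ^ᶜ g ≤ S) :
    (zpowers b ⊔ zpowers x) ^ᶜ g = zpowers b ⊔ zpowers x :=
  cj_eq_of_cj_le fun q hq => by
    obtain ⟨q, hq', rfl⟩ := mem_cj'.1 hq
    exact h.Qsc hq' hg (hS hq)

theorem decomp {s : G} (hs : s ∈ S) :
    ∃ q ∈ zpowers b ⊔ zpowers x, q⁻¹ * s * y = y * (q⁻¹ * s) := by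
  obtain ⟨β, hβ, e⟩ := h.conj_y h.hx.1
  obtain ⟨γ, hγ, e'⟩ := h.conj_y hs
  have key : ∀ q, q * y * q⁻¹ = s * y * s⁻¹ → q⁻¹ * s * y = y * (q⁻¹ * s) := fun q hq => by
    calc q⁻¹ * s * y = q⁻¹ * (s * y * s⁻¹) * s := by group
      _ = _ := by rw [← hq]; group
  rcases par (zpowers_le.2 (h.om_gen h.hx h.xn hβ e) hγ) with ⟨δ, hδ, rfl⟩ | ⟨δ, hδ, rfl⟩ <;>
    replace hδ := zpowers_le.2 hβ hδ
  · exact ⟨δ⁻¹, mem_sup_left (inv_mem hδ), key _ (by rw [e', inv_inv, h.conj_y_b hδ])⟩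
  · refine ⟨δ⁻¹ * x, mul_mem (mem_sup_left (inv_mem hδ)) (mem_sup_right (mem_zpowers x)), key _ ?_⟩
    calc δ⁻¹ * x * y * (δ⁻¹ * x)⁻¹ = δ⁻¹ * (x * y * x⁻¹) * δ := by group
      _ = δ⁻¹ * y * (β * δ) := by rw [e]; group
      _ = δ⁻¹ * y * δ * β := by rw [zp_comm hβ hδ]; group
      _ = _ := by rw [h.conj_y_b hδ, e', zp_comm hβ (mul_mem hδ hδ), mul_assoc]

theorem Qcy {q : G} (hq : q ∈ zpowers b ⊔ zpowers x) (hc : q * y = y * q) : q = 1 ∨ q = z := by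
  by_cases hb : q ∈ zpowers b
  · refine h.inv2 hb ?_
    have := h.mi hb
    rw [← hc, mul_inv_cancel_right] at this
    nth_rw 2 [this]
    exact mul_inv_cancel q
  · exact absurd (h.om_sq ((h.memQ'.1 hq).resolve_left hb)) (h.nsq h.hy (h.QS hq).1 hc)

theorem isP : IsPGroup 2 (zpowers b ⊔ zpowers x : Subgroup G) :=
  h.syl.isP.to_le (h.QS.trans inf_le_left)

theorem k1 {a v q : G} (ha : a ∈ A) (hv : v ∈ 𝐂(zpowers b ⊔ zpowers x))
    (hq : q ∈ zpowers b ⊔ zpowers x)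
    (hc : q * (a * v * a⁻¹) * q⁻¹ = a * v * a⁻¹ ∨ q * (a * v * a⁻¹) * q⁻¹ = a * v * a⁻¹ * z) :
    ∃ c ∈ A, (c * v * c⁻¹ = a * v * a⁻¹ ∨ c * v * c⁻¹ = a * v * a⁻¹ * z) ∧
      c⁻¹ * q * c ∈ zpowers b ⊔ zpowers x := by
  set Q := zpowers b ⊔ zpowers x
  have hQA : Q ≤ A := h.QS.trans inf_le_right
  have h1 : Q ^ᶜ a ≤ A ⊓ cst z (a * v * a⁻¹) h.zz := fun r hr => by
    refine mem_inf.2 ⟨cj_le_of_mem hQA ha hr, h.cz (h.AC (cj_le_of_mem hQA ha hr)), Or.inl ?_⟩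
    obtain ⟨r, hr', rfl⟩ := mem_cj'.1 hr
    rw [conj_mul, hv r hr']; group
  obtain ⟨T, hT, hle⟩ := exists_isSylowIn_le (isPGroup_cj h.isP a) h1
  obtain ⟨c, hc', h2⟩ := hT.exists_cj_le (h.el2 (h.QS hq).1).isPGroup
    (zpowers_le.2 (mem_inf.2 ⟨hQA hq, h.cz (h.AC (hQA hq)), hc⟩))
  obtain ⟨d, hd, h3⟩ := h.TA.exists_cj_le hT.isP (hT.le.trans inf_le_left)
  have h4 : Q ^ᶜ (d * a) = Q := h.Qcj (h.AC (mul_mem hd ha))
    (by rw [← cj_cj]; exact ((cj_mono d hle).trans h3).trans inf_le_left)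
  have h5 : d * c * q * (d * c)⁻¹ ∈ Q := h.Qsc hq (h.AC (mul_mem hd hc'.1)) (by
    have := h3 (cj_mem d (h2 (cj_mem c (mem_zpowers q))))
    have e : d * (c * q * c⁻¹) * d⁻¹ = d * c * q * (d * c)⁻¹ := by group
    rw [e] at this
    exact this.1)
  rw [← h4, mem_cj] at h5
  refine ⟨c⁻¹ * a, mul_mem (inv_mem hc'.1) ha, ?_, by simpa [mul_assoc] using h5⟩
  have := (inv_mem hc'.2 : c⁻¹ ∈ cst z (a * v * a⁻¹) h.zz).2
  have e : c⁻¹ * a * v * (c⁻¹ * a)⁻¹ = c⁻¹ * (a * v * a⁻¹) * c⁻¹⁻¹ := by group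
  rwa [e]

theorem comm_of_k {c v s q : G} (hv : v ∈ 𝐂(zpowers b ⊔ zpowers x))
    (e : c * v * c⁻¹ = s ∨ c * v * c⁻¹ = s * z) (hq : c⁻¹ * q * c ∈ zpowers b ⊔ zpowers x)
    (hz : q * z = z * q) : q * s = s * q := by
  have h1 : q * (c * v * c⁻¹) = c * v * c⁻¹ * q := by
    calc q * (c * v * c⁻¹) = c * (c⁻¹ * q * c * v) * c⁻¹ := by group
      _ = _ := by rw [hv _ hq]; group
  rcases e with e | e <;> rw [e] at h1
  · exact h1
  · rw [mul_assoc, ← hz, ← mul_assoc, ← mul_assoc] at h1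
    exact mul_right_cancel h1

theorem dih {x' : G} {g : G} (hg : g ∈ 𝐂[z]) (e : x' = g * w * g⁻¹) (hi : x' * b * x'⁻¹ = b⁻¹) :
    ∃ N : ℕ, Odd N ∧ (x * x') ^ N ∈ zpowers b := by
  set d := x * x' with hd
  have hx2 := h.om_sq h.hx
  have hx'2 : x' * x' = z := by rw [e, conj_mul, h.ww, h.cz hg]
  have hx'z : x' ∈ 𝐂[z] := e ▸ mul_mem (mul_mem hg (h.SC h.wS)) (inv_mem hg)
  have hxz := h.SC h.hx.1
  have hdb : d * b = b * d := by
    rw [← mul_inv_eq_iff_eq_mul]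
    calc d * b * d⁻¹ = x * (x' * b * x'⁻¹) * x⁻¹ := by rw [hd]; group
      _ = b := by rw [hi, h.xi (inv_mem (mem_zpowers b)), inv_inv]
  have hxd : x * d * x⁻¹ = d⁻¹ := by
    rw [eq_inv_iff_mul_eq_one]
    calc x * d * x⁻¹ * d = x * x * (x' * x') := by rw [hd]; group
      _ = 1 := by rw [hx2, hx'2, h.zz]
  have hdz : d ∈ 𝐂[z] := mul_mem hxz hx'z
  obtain ⟨d₁, hd₁, d₂, hd₂, ho, h2, e2⟩ := exists_parts d
  have hb2 : d₂ * b = b * d₂ := (comm_of_mem_zpowers hdb.symm hd₂).symm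
  have hcl : ∃ c ∈ 𝐂[z], d₂ * x = c * w * c⁻¹ := by
    obtain ⟨c, hc, ec⟩ := h.hx.2
    have key : ∀ δ ∈ zpowers d, δ * x * δ⁻¹ = δ * δ * x := fun δ hδ => by
      have := inv_of_mem_zpowers hxd (inv_mem hδ)
      calc δ * x * δ⁻¹ = δ * (x * δ⁻¹ * x⁻¹) * x := by group
        _ = _ := by rw [this, inv_inv]
    rcases par (β := d⁻¹) (γ := d₂) (by rwa [zpowers_inv]) with ⟨δ, hδ, rfl⟩ | ⟨δ, hδ, rfl⟩ <;>
      rw [zpowers_inv] at hδ
    · exact ⟨δ * c, mul_mem (zpowers_le.2 hdz hδ) hc, by rw [← key δ hδ, ec]; group⟩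
    · refine ⟨δ * g * y, mul_mem (mul_mem (zpowers_le.2 hdz hδ) hg) (h.SC h.yS), ?_⟩
      calc d⁻¹ * (δ * δ) * x = d⁻¹ * (δ * x * δ⁻¹) := by rw [key δ hδ]; group
        _ = δ * d⁻¹ * x * δ⁻¹ := by rw [zp_comm hδ (inv_mem (mem_zpowers d))]; group
        _ = δ * x'⁻¹ * δ⁻¹ := by rw [hd]; group
        _ = δ * g * (y * w * y⁻¹) * (δ * g)⁻¹ := by rw [h.mi h.wb, e]; group
        _ = _ := by group
  have hn1 : zpowers d₂ ≤ 𝐍(zpowers b) :=
    zpowers_le.2 (mem_norm_zpowers (by rw [hb2, mul_inv_cancel_right]; exact mem_zpowers b))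
  have hP : IsPGroup 2 (zpowers b ⊔ zpowers d₂ ⊔ zpowers x : Subgroup G) := by
    refine isPGroup_sup_of_le_normalizer_left (isPGroup_sup_of_le_normalizer_left
      (h.el2 (h.mS (mem_zpowers b))).isPGroup h2.isPGroup hn1) (h.el2 h.hx.1).isPGroup
      (le_normalizer_sup (zpowers_le.2 (mem_norm_zpowers (h.nb h.hx.1 (mem_zpowers b))))
        (zpowers_le.2 (mem_norm_zpowers ?_)))
    rw [inv_of_mem_zpowers hxd hd₂]; exact inv_mem (mem_zpowers _)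
  obtain ⟨c, hc, hle⟩ := (h.syl.mono h.SC le_top).exists_cj_le hP (sup_le (sup_le
    (fun _ hq => h.SC (h.mS hq)) (zpowers_le.2 (zpowers_le.2 hdz hd₂))) (zpowers_le.2 hxz))
  have h3 := h.Qcj hc ((cj_mono c (sup_le_sup_right le_sup_left _)).trans hle)
  obtain ⟨c', hc', e3⟩ := hcl
  have h4 : c * (d₂ * x) * c⁻¹ ∈ zpowers b ⊔ zpowers x := h.memQ'.2 (Or.inr ⟨hle (cj_mem c (mul_mem
    (mem_sup_left (mem_sup_right (mem_zpowers _))) (mem_sup_right (mem_zpowers _)))),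
    c * c', mul_mem hc hc', by rw [e3]; group⟩)
  rw [← h3, cj_mem_iff, Subgroup.mul_mem_cancel_right _ (mem_sup_right (mem_zpowers x))] at h4
  have h5 : d₂ ∈ zpowers b := by
    by_contra hn
    refine h.w_ne ?_
    rw [← h.om_inv ((h.memQ'.1 h4).resolve_left hn) hn, comm_of_mem_zpowers hb2 h.wb,
      mul_inv_cancel_right]
  refine ⟨orderOf d₁, ho, ?_⟩
  rw [e2, Commute.mul_pow (zp_comm hd₁ hd₂), pow_orderOf_eq_one, one_mul]
  exact pow_mem h5 _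

theorem Vsc {a v : G} (ha : a ∈ A) (hv : v ∈ 𝐂(zpowers b ⊔ zpowers x)) (hS : a * v * a⁻¹ ∈ S) :
    a * v * a⁻¹ ∈ 𝐂(zpowers b ⊔ zpowers x) := by
  have hb : ∀ r ∈ zpowers b, r * (a * v * a⁻¹) = a * v * a⁻¹ * r := fun r hr => by
    refine El2.induction (P := fun r => r ∈ zpowers b → r * (a * v * a⁻¹) = a * v * a⁻¹ * r)
      (fun _ => by simp) (fun r _ ih hr => ?_) (h.el2 (h.mS hr)) hr
    have h1 := ih (mul_mem hr hr)
    have h2 := h.mem_zz (h.quot_z hr (h.nb (inv_mem hS) hr) (by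
      rw [conj_mul, mul_assoc, inv_inv, h1, inv_mul_cancel_left]))
    obtain ⟨c, -, e, hq⟩ := h.k1 ha hv (inv_mem (mem_sup_left hr)) (by
      set s := a * v * a⁻¹
      have : r⁻¹ * s * r⁻¹⁻¹ = s * (r⁻¹ * (s⁻¹ * r * s⁻¹⁻¹))⁻¹ := by group
      rw [this]
      rcases h2 with e | e <;> rw [e]
      · exact Or.inl (by simp)
      · exact Or.inr (by rw [h.zi]))
    exact (Commute.inv_left_iff.1 (h.comm_of_k hv e hq (h.zc (inv_mem (h.mS hr))))).eq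
  obtain ⟨c, hc, e, hq⟩ := h.k1 ha hv (mem_sup_left (mem_zpowers b))
    (Or.inl (by rw [hb b (mem_zpowers b), mul_inv_cancel_right]))
  obtain ⟨x₀, h0, hi⟩ : ∃ x₀, Om S z w x₀ ∧ x₀ * (c⁻¹ * b * c) * x₀⁻¹ = (c⁻¹ * b * c)⁻¹ := by
    by_cases hm : c⁻¹ * b * c ∈ zpowers b
    · exact ⟨x, h.hx, h.xi hm⟩
    · refine ⟨w, h.om_w, ?_⟩
      have h1 := (h.memQ'.1 hq).resolve_left hm
      have h2 := h.om_invb h1 hm (inv_mem h.wb)
      rw [eq_inv_iff_mul_eq_one]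
      set r := c⁻¹ * b * c
      calc w * r * w⁻¹ * r = w * (r * w⁻¹ * r⁻¹) * (r * r) := by group
        _ = 1 := by rw [h2, inv_inv, h.ww, h.om_sq h1, h.zz]
  obtain ⟨g, hg, e0⟩ := h0.2
  obtain ⟨N, hN, h3⟩ := h.dih (x' := c * x₀ * c⁻¹) (mul_mem (h.AC hc) hg) (by rw [e0]; group) (by
    calc c * x₀ * c⁻¹ * b * (c * x₀ * c⁻¹)⁻¹ = c * (x₀ * (c⁻¹ * b * c) * x₀⁻¹) * c⁻¹ := by group
      _ = _ := by rw [hi]; group)
  have h4 := h.comm_of_k (q := c * x₀ * c⁻¹) hv e (by simpa [mul_assoc] using h.memQ'.2 (Or.inr h0))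
    (h.Az (mul_mem (mul_mem hc (h.om_A h0)) (inv_mem hc)))
  set s := a * v * a⁻¹
  set x' := c * x₀ * c⁻¹
  have h5 : s * x * s⁻¹ * x⁻¹ ∈ zpowers b := h.om_cov h.hx h.xn (h.om_conj h.hx hS) fun hm =>
    h.xn (by simpa [mul_assoc] using h.nb (inv_mem hS) hm)
  have hx'b : x' * b * x'⁻¹ = b⁻¹ := by
    calc c * x₀ * c⁻¹ * b * (c * x₀ * c⁻¹)⁻¹ = c * (x₀ * (c⁻¹ * b * c) * x₀⁻¹) * c⁻¹ := by group
      _ = _ := by rw [hi]; group
  set γ := s * x * s⁻¹ * x⁻¹ with hγ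
  have h6 : s * (x * x') * s⁻¹ = γ * (x * x') := by
    rw [← conj_mul, ← h4, hγ]; group
  have h7 : Commute γ (x * x') := by
    change γ * (x * x') = x * x' * γ
    rw [eq_comm, ← mul_inv_eq_iff_eq_mul]
    calc x * x' * γ * (x * x')⁻¹ = x * (x' * γ * x'⁻¹) * x⁻¹ := by group
      _ = γ := by rw [inv_of_mem_zpowers hx'b h5, h.xi (inv_mem h5), inv_inv]
  have h8 : γ ^ N = 1 := by
    have : (s * (x * x') * s⁻¹) ^ N = (γ * (x * x')) ^ N := by rw [h6]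
    rw [conj_pow, ← hb _ h3, mul_inv_cancel_right, h7.mul_pow] at this
    exact (right_eq_mul.1 this)
  have h9 : γ = 1 := (h.el2 (h.mS h5)).eq_one (hN.of_dvd_nat (orderOf_dvd_of_pow_eq_one h8))
  rw [centralizer_sup, centralizer_zpowers, centralizer_zpowers]
  refine mem_inf.2 ⟨mem_centralizer_singleton_iff.2 (hb b (mem_zpowers b)).symm,
    mem_centralizer_singleton_iff.2 ?_⟩
  rw [hγ, mul_inv_eq_one, mul_inv_eq_iff_eq_mul] at h9
  exact h9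

end CX

end H69.TM
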