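import Mathlib
import Cfsg.Agent.Base
import Cfsg.Agent.Lib.Term.StdD
import Cfsg.Agent.Lib.TwoFusion.Tools
import Cfsg.Agent.S2767

/-! # A 2-central involution all of whose other conjugates invert a square root of it, V -/

set_option autoImplicit false
set_option linter.unusedSectionVars false

namespace H69.TM

open Subgroup Cfsg H69 Gold H45
open scoped commutatorElement

universe u

variable {G : Type u} [Group G] [Finite G]

theorem sc_pair {K T A B : Subgroup G} (hT : IsSylowIn 2 T K) (hA : A ≤ T) (hB : B ≤ T)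
    (h1 : ∀ a ∈ A, ∀ g ∈ K, g * a * g⁻¹ ∈ T → g * a * g⁻¹ ∈ A)
    (h2 : ∀ a ∈ B, ∀ g ∈ K, g * a * g⁻¹ ∈ T → g * a * g⁻¹ ∈ B) (hc : B ≤ 𝐂(A)) :
    ⁅ncl A K, ncl B K⁆ ≤ ncl (A ⊓ B) K ⊔ Od K := by
  obtain ⟨P, hP⟩ := hT.exists_sylow_subgroupOf
  have := Cfsg.Agent.S2767.result P (A.subgroupOf K) (B.subgroupOf K)
    ⟨hP ▸ fun _ ha => hA ha, fun a ha g hg => h1 a ha g g.2 (by rw [hP] at hg; exact hg)⟩
    ⟨hP ▸ fun _ ha => hB ha, fun a ha g hg => h2 a ha g g.2 (by rw [hP] at hg; exact hg)⟩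
    fun a ha b hb => Subtype.ext (hc hb a ha)
  have h3 := map_mono (f := K.subtype) this
  have e : A.subgroupOf K ⊓ B.subgroupOf K = (A ⊓ B).subgroupOf K := rfl
  rwa [map_commutator, Subgroup.map_sup, e, map_normalClosure_subgroupOf (hA.trans hT.le),
    map_normalClosure_subgroupOf (hB.trans hT.le),
    map_normalClosure_subgroupOf (inf_le_left.trans (hA.trans hT.le))] at h3

theorem Od_le_cent {A : Subgroup G} (hA : IsQuasisimple A) : Od A ≤ 𝐂(A) :=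
  (H23.IsQuasisimple.eq_or_le_centralizer hA (Od_le A) (le_norm_Od A)).resolve_left fun e =>
    H23.IsQuasisimple.not_le_of_isSolvable hA ((Od_odd A).solv ft) e.symm.le

theorem der_sup_le {D C : Subgroup G} (hn : C ≤ 𝐍(D)) (hC : C ≤ 𝐂(C)) : ⁅D ⊔ C, D ⊔ C⁆ ≤ D :=
  commutator_sup_le_left le_normalizer hn
    (commutator_le_left_of_le_normalizer (sup_le le_normalizer hn))
    (commutator_sup_le_right le_normalizer hn (commutator_le_right_of_le_normalizer hn)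
      ((commutator_eq_bot_of_le_centralizer hC).le.trans bot_le))

namespace CX

variable {S A : Subgroup G} {z u y b w x : G} (h : CX S A z u y b w x)
include h

theorem V_le : S ⊓ A ⊓ 𝐂(zpowers b ⊔ zpowers x) ≤ 𝐂(A) := by
  set Q := zpowers b ⊔ zpowers x
  have h1 := sc_pair h.TA h.QS (B := S ⊓ A ⊓ 𝐂(Q)) inf_le_left
    (fun q hq g hg hm => h.Qsc hq (h.AC hg) hm.1)
    (fun v hv g hg hm => mem_inf.2 ⟨hm, h.Vsc hg hv.2 hm.1⟩) inf_le_right
  have h2 : ncl Q A = A := (H23.IsQuasisimple.eq_or_le_centralizer h.qs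
    (ncl_le_self (h.QS.trans inf_le_right)) (le_normalizer_ncl _ _)).resolve_right fun e =>
      h.wC (e (le_ncl _ _ (mem_sup_left h.wb)))
  rcases H23.IsQuasisimple.eq_or_le_centralizer h.qs
    (ncl_le_self (A := S ⊓ A ⊓ 𝐂(Q)) (inf_le_left.trans inf_le_right)) (le_normalizer_ncl _ _)
    with e | e
  · exfalso
    rw [h2, e, H23.IsQuasisimple.commutator_self h.qs] at h1
    refine H23.IsQuasisimple.not_le_centralizer h.qs (h1.trans (sup_le
      (ncl_le_centralizer (fun q hq => ?_) le_normalizer) (Od_le_cent h.qs)))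
    have hb : q ∈ zpowers b := by
      by_contra hn
      refine h.w_ne ?_
      rw [← h.om_inv ((h.memQ'.1 hq.1).resolve_left hn) hn, ← hq.2.2 w (mem_sup_left h.wb),
        mul_inv_cancel_right]
    have e1 := h.xi hb
    rw [hq.2.2 x (mem_sup_right (mem_zpowers x)), mul_inv_cancel_right] at e1
    exact zpowers_le.2 h.zA (h.inv2' hb (by nth_rw 2 [e1]; exact mul_inv_cancel q))
  · exact (le_ncl _ _).trans e

theorem c_sq : y * x * (y * x) ∈ zpowers b ∧ b ∈ zpowers (y * x * (y * x)) := by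
  obtain ⟨β, hβ, e⟩ := h.conj_y h.hx.1
  have e1 : y * x * (y * x) = β * z := by
    rw [← h.om_sq h.hx, ← mul_assoc β, ← h.yconj e, h.yi]; group
  rw [e1]
  have h1 := mul_mem hβ h.zb
  refine ⟨h1, zpowers_le.2 ?_ (h.om_gen h.hx h.xn hβ e)⟩
  have h2 : β * z ≠ 1 := fun e2 => by
    have : β ∈ zpowers z := by rw [eq_inv_of_mul_eq_one_left e2]; exact inv_mem (mem_zpowers z)
    exact h.wC (zpowers_le.2 h.zA (zpowers_le.2 this
      (zpowers_le.2 (h.om_gen h.hx h.xn hβ e) h.wb)))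
  simpa using mul_mem (mem_zpowers (β * z)) (inv_mem (h.zmem h.hy ((h.hb _).2 h1) h2))

theorem b_le : zpowers b ≤ zpowers (y * x) :=
  zpowers_le.2 (zpowers_le.2 (mul_mem (mem_zpowers _) (mem_zpowers _)) h.c_sq.2)

theorem cS : y * x ∈ S := mul_mem h.yS h.hx.1

theorem c_norm {v : G} (hv : v ∈ S) (hy : v * y = y * v) :
    v * (y * x) * v⁻¹ ∈ zpowers (y * x) := by
  have h5 : v * x * v⁻¹ * x⁻¹ ∈ zpowers b := h.om_cov h.hx h.xn (h.om_conj h.hx hv) fun hm =>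
    h.xn (by simpa [mul_assoc] using h.nb (inv_mem hv) hm)
  have : v * (y * x) * v⁻¹ = y * (v * x * v⁻¹ * x⁻¹) * y⁻¹ * (y * x) := by
    rw [← mul_assoc v, hy]; group
  rw [this, h.mi h5]
  exact mul_mem (inv_mem (h.b_le h5)) (mem_zpowers _)

theorem c_ord : ∃ m, 2 ≤ m ∧ orderOf (y * x) = 2 ^ (m + 1) ∧ (y * x) ^ 2 ^ m = z := by
  have hw : orderOf w = 2 ^ 2 := orderOf_eq_prime_pow (p := 2) (n := 1)
    (by rw [pow_one, pow_two, h.ww]; exact h.z1)
    (by rw [show 2 ^ (1 + 1) = 2 * 2 from rfl, pow_mul, pow_two w, h.ww, pow_two, h.zz])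
  obtain ⟨m, hm⟩ := El2.exists_order' (h.el2 h.cS) fun e => h.z1 (by
    simpa [e] using h.b_le h.zb)
  refine ⟨m, ?_, hm, ((H5.eq_one_or_half hm (h.b_le h.zb) h.zz).resolve_left h.z1).symm⟩
  have := orderOf_dvd_of_mem_zpowers (zpowers_le.2 h.c_sq.2 h.wb)
  rw [hw, orderOf_sq_of hm] at this
  exact (Nat.pow_dvd_pow_iff_le_right one_lt_two).1 this

theorem cent_Q {v : G} (hy : v * y = y * v) (hc : v * (y * x) = y * x * v) :
    v ∈ 𝐂(zpowers b ⊔ zpowers x) := by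
  refine le_centralizer_iff.1 (sup_le (h.b_le.trans ?_) ?_) (mem_zpowers v) <;>
    rw [zpowers_le, centralizer_zpowers, mem_centralizer_singleton_iff]
  · exact hc.symm
  · rw [← mul_assoc, hy, mul_assoc, mul_assoc] at hc
    exact (mul_left_cancel hc).symm

theorem gt {K D : Subgroup G} (hK : ⁅K, K⁆ = K) (hT : IsSylowIn 2 (S ⊓ K) K) (hn : S ≤ 𝐍(D))
    (hz : z ∈ D) (hd : ∀ s ∈ S ⊓ K, ∃ d ∈ D, ∃ v ∈ S ⊓ K ⊓ 𝐂[y] ⊓ 𝐂[u], s = d * v)
    (hD : ∀ d ∈ D, d * y = y * d → d * u = u * d → d = 1 ∨ d = z)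
    (hi : ∀ d ∈ D, d * d = 1 → d ≠ 1 → IsConj z d)
    (hV : ∀ v ∈ S ⊓ K, v * v = 1 → v ∈ 𝐂(zpowers b ⊔ zpowers x) → v = 1 ∨ v = z) :
    S ⊓ K ≤ D := by
  set C := S ⊓ K ⊓ 𝐂[y] ⊓ 𝐂[u] with hC
  have cy : ∀ v ∈ C, v * y = y * v := fun v hv => mem_centralizer_singleton_iff.1 hv.1.2
  have cu : ∀ v ∈ C, v * u = u * v := fun v hv => mem_centralizer_singleton_iff.1 hv.2
  have hab : C ≤ 𝐂(C) := fun v hv v' hv' => by
    by_contra hne
    have hm : v' * v * v'⁻¹ * v⁻¹ ∈ C := mul_mem (mul_mem (mul_mem hv' hv) (inv_mem hv')) (inv_mem hv)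
    obtain ⟨m, hm'⟩ := El2.exists_order' (h.el2 hm.1.1.1)
      (by rwa [Ne, mul_inv_eq_one, mul_inv_eq_iff_eq_mul])
    have hc : v' * v * v'⁻¹ * v⁻¹ * (y * x) = y * x * (v' * v * v'⁻¹ * v⁻¹) := by
      obtain ⟨i, e1⟩ := mem_zpowers_iff.1 (h.c_norm (inv_mem hv.1.1.1) (cy _ (inv_mem hv)))
      obtain ⟨j, e2⟩ := mem_zpowers_iff.1 (h.c_norm (inv_mem hv'.1.1.1) (cy _ (inv_mem hv')))
      have e3 : v⁻¹ * (v'⁻¹ * (y * x) * v'⁻¹⁻¹) * v⁻¹⁻¹ = v'⁻¹ * (v⁻¹ * (y * x) * v⁻¹⁻¹) * v'⁻¹⁻¹ := by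
        rw [← e1, ← e2, ← conj_zpow, ← conj_zpow, ← e1, ← e2, ← zpow_mul, ← zpow_mul, mul_comm]
      calc v' * v * v'⁻¹ * v⁻¹ * (y * x)
          = v' * v * (v'⁻¹ * (v⁻¹ * (y * x) * v⁻¹⁻¹) * v'⁻¹⁻¹) * v'⁻¹ * v⁻¹ := by group
        _ = _ := by rw [← e3]; group
    have h1 := (hV _ (pow_mem hm.1.1 (2 ^ m)) (H5.half_mul_self hm') (h.cent_Q
      (cy _ (pow_mem hm _)) (Commute.pow_left hc _).eq)).resolve_left (H5.half_ne_one hm')
    rcases m with _ | m
    · exact h.ncomm h.hy hv'.1.1.1 (cy _ hv') hv.1.1.1 (cy _ hv) (by simpa using h1)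
    · exact h.nsq h.hy (pow_mem hm.1.1.1 (2 ^ m)) (cy _ (pow_mem hm _))
        (by rw [← h1, ← pow_add, ← two_mul, ← pow_succ'])
  obtain ⟨m, hm2, hm, hmz⟩ := h.c_ord
  have act : ∀ v ∈ C, v * v = 1 → v = 1 ∨ v = z ∨ v * (y * x) * v⁻¹ = y * x * z := by
    intro v hv h2
    have hw := h.cw hv.1.1.1 (cy v hv) (cu v hv)
    have hn : v * (y * x * (y * x)) * v⁻¹ ≠ (y * x * (y * x))⁻¹ := fun e => h.w_ne (by
      rw [← inv_of_mem_zpowers e (zpowers_le.2 h.c_sq.2 h.wb), hw, mul_inv_cancel_right])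
    rcases H5.conj_cases hm (h.c_norm hv.1.1.1 (cy v hv)) (by rw [h2]; exact Commute.one_left _)
      with e | e | e | e
    · rw [← or_assoc]
      exact Or.inl (hV v hv.1.1 h2 (h.cent_Q (cy v hv) (mul_inv_eq_iff_eq_mul.1 e)))
    · exact Or.inr (Or.inr (by rw [e, hmz]))
    · exact absurd (by rw [← conj_mul, e, mul_inv_rev (y * x)]) hn
    · refine absurd ?_ hn
      rw [← conj_mul, e, hmz, mul_inv_rev (y * x), mul_assoc, ← mul_assoc z,
        ← h.zc (inv_mem h.cS), mul_assoc, h.zz, mul_one]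
  by_contra hcon
  obtain ⟨t, ht, ht2, ht1, htz⟩ : ∃ t ∈ C, t * t = 1 ∧ t ≠ 1 ∧ t ≠ z := by
    by_contra hc
    push Not at hc
    refine hcon fun s hs => ?_
    obtain ⟨d, hd', v, hv, rfl⟩ := hd s hs
    refine mul_mem hd' (zpowers_le.2 hz ?_)
    refine El2.induction (P := fun v => v ∈ C → v ∈ zpowers z) (fun _ => one_mem _)
      (fun v _ ih hv => ?_) (h.el2 hv.1.1.1) hv
    have h1 := (h.mem_zz (ih (mul_mem hv hv))).resolve_right (h.nsq h.hy hv.1.1.1 (cy v hv))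
    by_cases e : v = 1
    · rw [e]; exact one_mem _
    · rw [hc v hv h1 e]; exact mem_zpowers z
  have hCn : C ≤ 𝐍(D) := fun v hv => hn hv.1.1.1
  have hle : S ⊓ K ≤ D ⊔ C := fun s hs => by
    obtain ⟨d, hd', v, hv, rfl⟩ := hd s hs
    exact mul_mem (mem_sup_left hd') (mem_sup_right hv)
  obtain ⟨g, -, -, hg⟩ := tt hK hT ((commutator_mono hle hle).trans (der_sup_le hCn hab)) ht.1.1 ht2
    (fun g _ hs => by
      have hs2 : g * t * g⁻¹ * (g * t * g⁻¹) = 1 := by rw [conj_mul, ht2]; simp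
      obtain ⟨d, hd', v, hv, e⟩ := hd _ hs
      have h1 : v * v ∈ D := by
        have e' : v * v = d⁻¹ * (g * t * g⁻¹ * d⁻¹ * (g * t * g⁻¹)⁻¹) *
            (g * t * g⁻¹ * (g * t * g⁻¹)) := by rw [e]; group
        rw [e', hs2, mul_one]
        exact mul_mem (inv_mem hd') (conj_mem_of_mem_normalizer (hn hs.1) (inv_mem hd'))
      have h2 := (hD _ h1 (cy _ (mul_mem hv hv)) (cu _ (mul_mem hv hv))).resolve_right
        (h.nsq h.hy hv.1.1.1 (cy v hv))
      rw [e]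
      rcases act v hv h2 with e1 | e1 | e1
      · exact Or.inl (by rwa [e1, mul_one])
      · exact Or.inl (e1 ▸ mul_mem hd' hz)
      right
      have e2 := ((act t ht ht2).resolve_left ht1).resolve_left htz
      have h3 : t * v ∈ D := by
        rcases hV _ (mul_mem ht hv).1.1 (by
          rw [mul_assoc, ← mul_assoc v, hab ht v hv, mul_assoc, h2, mul_one, ht2]) (h.cent_Q
          (cy _ (mul_mem ht hv)) (by
            rw [← mul_inv_eq_iff_eq_mul]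
            calc t * v * (y * x) * (t * v)⁻¹ = t * (v * (y * x) * v⁻¹) * t⁻¹ := by group
              _ = y * x := by
                rw [e1, ← conj_mul, e2, h.cz (h.SC ht.1.1.1), mul_assoc, h.zz, mul_one]))
          with e3 | e3 <;> rw [e3]
        · exact one_mem _
        · exact hz
      have : t⁻¹ * (d * v) = t⁻¹ * d * t * (t * t)⁻¹ * (t * v) := by group
      rw [this, ht2, inv_one, mul_one]
      exact mul_mem (conj_mem_of_mem_normalizer' (hCn ht) hd') h3)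
  have h4 := hi _ hg (by rw [conj_mul, ht2]; simp) (by simpa using ht1)
  refine h.u_ne ?_
  rw [← h.inv t ⟨ht.1.1.1, h4.trans (isConj_iff.2 ⟨g⁻¹, by group⟩), htz⟩, cu t ht,
    mul_inv_cancel_right]

theorem TA_eq : S ⊓ A = zpowers b ⊔ zpowers x := by
  refine le_antisymm (h.gt (H23.IsQuasisimple.commutator_self h.qs) h.TA h.SNQ h.zQ
    (fun s hs => ?_) (fun d hd hy _ => h.Qcy hd hy) (fun d hd h2 h1 => ?_) fun v hv h2 hc => ?_) h.QS
  · obtain ⟨q, hq, e⟩ := h.decomp hs.1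
    have h1 := mul_mem (inv_mem (h.QS hq)) hs
    exact ⟨q, hq, q⁻¹ * s, mem_inf.2 ⟨mem_inf.2 ⟨h1, mem_centralizer_singleton_iff.2 e⟩,
      mem_centralizer_singleton_iff.2 (h.uA _ h1.2)⟩, by group⟩
  · rw [(h.Qinv hd h2).resolve_left h1]
  · exact h.r1 v hv.1 (h.V_le (mem_inf.2 ⟨hv, hc⟩)) h2

theorem rank : PRankLE 2 1 A := by
  intro E hE h2
  have hP : IsPGroup 2 (E.map A.subtype) := isPGroup_iff_mem.2 (by
    rintro _ ⟨e, he, rfl⟩
    exact ⟨1, by rw [pow_one, ← map_pow, h2 e he, map_one]⟩)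
  obtain ⟨g, hg, hle⟩ := h.TA.exists_cj_le hP (map_subtype_le E)
  have h1 : (E.map A.subtype) ^ᶜ g ≤ zpowers z := fun q hq => by
    have hq' := hle hq
    rw [h.TA_eq] at hq'
    refine (mem_zpowers_of_mul_self h.zz).2 (h.Qinv hq' ?_)
    obtain ⟨_, ⟨e, he, rfl⟩, rfl⟩ := mem_cj'.1 hq
    rw [conj_mul, ← pow_two, ← map_pow, h2 e he]; simp
  have := card_le_of_le h1
  rw [card_cj, card_map_subtype, Nat.card_zpowers,
    orderOf_eq_prime (p := 2) (by rw [pow_two, h.zz]) h.z1] at this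
  simpa using this

theorem cent_inv {v : G} (hv : v ∈ S) (h2 : v * v = 1) (hc : v ∈ 𝐂(zpowers b ⊔ zpowers x)) :
    v = 1 ∨ v = z := by
  refine h.r1 v hv ?_ h2
  have hy : zpowers v ≤ 𝐍(A) := zpowers_le.2 (h.SN hv)
  have hyS : zpowers v ≤ S := zpowers_le.2 hv
  have hS := sylow_sup h.TA (h.el2 hv).isPGroup hy
    (le_normalizer_inf (le_normalizer_of_le hyS) hy)
  refine zq (Z := zpowers z) h.qs le_sup_right (sup_le hy le_normalizer) hS (zpowers_le.2 h.zA)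
    (zpowers_le.2 (mem_sup_right (mem_inf.2 ⟨h.zS, h.zA'⟩)))
    ((sup_le (hyS.trans h.SC) h.AC).trans h.Cz_norm) (mem_sup_left (mem_zpowers v))
    fun g hg hm => ?_
  rw [sup_comm] at hg
  obtain ⟨a, ha, c, hc', rfl⟩ := (mem_sup_of_le_normalizer_left hy).1 hg
  have e : a * c * v * (a * c)⁻¹ = a * v * a⁻¹ := by
    rw [mul_assoc a, ← comm_of_mem_zpowers rfl hc']; group
  rw [e] at hm ⊢
  have hA : v⁻¹ * (a * v * a⁻¹) ∈ S ⊓ A := by
    refine mem_inf.2 ⟨mul_mem (inv_mem hv) (sup_le hyS inf_le_left hm), ?_⟩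
    have := mul_mem (conj_mem_of_mem_normalizer' (h.SN hv) ha) (inv_mem ha)
    simpa [mul_assoc] using this
  rw [h.TA_eq] at hA
  refine (mem_zpowers_of_mul_self h.zz).2 (h.Qinv hA ?_)
  have e1 := hc _ hA
  have e2 : a * v * a⁻¹ * (a * v * a⁻¹) = 1 := by rw [conj_mul, h2]; simp
  set s := a * v * a⁻¹
  calc v⁻¹ * s * (v⁻¹ * s) = v⁻¹ * s * v * (v * v)⁻¹ * s := by group
    _ = (v * v)⁻¹ * (s * s) := by rw [e1, h2]; group
    _ = 1 := by rw [h2, e2]; simp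

theorem memD {q : G} : q ∈ zpowers b ⊔ zpowers x ⊔ zpowers y ↔
    q ∈ zpowers b ⊔ zpowers x ∨ q * y⁻¹ ∈ zpowers b ⊔ zpowers x :=
  mem_sup_zp (h.SNQ h.yS) (by rw [h.yy]; exact one_mem _)

theorem y_c : y * (y * x) * y⁻¹ = (y * x)⁻¹ * z := by
  rw [mul_inv_rev, mul_assoc x⁻¹, h.zc (inv_mem h.yS), ← h.om_sq h.hx, ← mul_assoc y, h.yy]
  group

theorem TL_eq {L : Subgroup G} (hL : ⁅L, L⁆ = L) (hn : S ≤ 𝐍(L)) (hA : A ≤ L) (hy : y ∈ L) :
    S ⊓ L = zpowers b ⊔ zpowers x ⊔ zpowers y := by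
  have hle : zpowers b ⊔ zpowers x ⊔ zpowers y ≤ S ⊓ L :=
    sup_le (h.QS.trans (inf_le_inf_left S hA)) (zpowers_le.2 (mem_inf.2 ⟨h.yS, hy⟩))
  have hu : ∀ q ∈ zpowers b ⊔ zpowers x, q * u = u * q := fun q hq => h.uA q (h.QS hq).2
  refine le_antisymm (h.gt hL (h.syl.inf_of_le_normalizer le_top hn) ?_ (mem_sup_left h.zQ)
    (fun s hs => ?_) (fun d hd hy hu' => ?_) (fun d hd h2 h1 => ?_)
    fun v hv h2 hc => h.cent_inv hv.1 h2 hc) hle
  · refine le_normalizer_of_cj_le fun s hs => ?_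
    rw [cj_sup, cj_eq_of_mem_normalizer (h.SNQ hs), cj_zpowers]
    refine sup_le le_sup_left (zpowers_le.2 ?_)
    obtain ⟨β, hβ, e⟩ := h.conj_y hs
    rw [e]
    exact mul_mem (mem_sup_right (mem_zpowers y)) (mem_sup_left (mem_sup_left hβ))
  · obtain ⟨q, hq, e⟩ := h.decomp hs.1
    have h1 := mul_mem (inv_mem (hle (mem_sup_left hq))) hs
    rcases h.un _ h1.1 with e' | e'
    · exact ⟨q, mem_sup_left hq, q⁻¹ * s, mem_inf.2 ⟨mem_inf.2 ⟨h1,
        mem_centralizer_singleton_iff.2 e⟩, mem_centralizer_singleton_iff.2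
        (mul_inv_eq_iff_eq_mul.1 e')⟩, by group⟩
    · refine ⟨q * y⁻¹, mul_mem (mem_sup_left hq) (inv_mem (mem_sup_right (mem_zpowers y))),
        y * (q⁻¹ * s), mem_inf.2 ⟨mem_inf.2 ⟨mul_mem (mem_inf.2 ⟨h.yS, hy⟩) h1,
        mem_centralizer_singleton_iff.2 (by rw [mul_assoc, e])⟩,
        mem_centralizer_singleton_iff.2 (mul_inv_eq_iff_eq_mul.1 ?_)⟩, by group⟩
      calc y * (q⁻¹ * s) * u * (y * (q⁻¹ * s))⁻¹ = y * (q⁻¹ * s * u * (q⁻¹ * s)⁻¹) * y⁻¹ := by group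
        _ = u := by rw [e', conj_inv_of (h.inv _ h.hy), inv_inv]
  · refine h.Qcy ((h.memD.1 hd).resolve_right fun e => h.u_ne ?_) hy
    have e1 := hu _ e
    calc u = y * u⁻¹⁻¹ * y⁻¹ := by
          rw [inv_inv, eq_comm, mul_inv_eq_iff_eq_mul]
          calc y * u = (d * y⁻¹)⁻¹ * (d * u) := by group
            _ = (d * y⁻¹)⁻¹ * (u * (d * y⁻¹)) * y := by rw [hu']; group
            _ = u * y := by rw [← e1]; group
      _ = _ := by rw [inv_inv, h.inv _ h.hy]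
  · rcases h.memD.1 hd with e | e
    · rw [(h.Qinv e h2).resolve_left h1]
    · by_cases hb : d * y⁻¹ ∈ zpowers b
      · have := ((h.hb _).2 (inv_mem hb)).2.1
        rwa [← h.mi hb, show y * (y * (d * y⁻¹) * y⁻¹) = y * y * d * (y * y)⁻¹ by group, h.yy,
          one_mul, inv_one, mul_one] at this
      · exfalso
        have h3 := (h.memQ'.1 e).resolve_left hb
        set q := d * y⁻¹ with hq
        have hX : CX S A z u y b w q := ⟨h.toCW, h3, hb⟩
        have e1 : y * q * (y * q) = 1 := by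
          calc y * q * (y * q) = y * (d * d) * y⁻¹ := by rw [hq]; group
            _ = 1 := by rw [h2]; simp
        have := zpowers_le.2 hX.c_sq.2 h.zb
        rw [e1, zpowers_one_eq_bot] at this
        exact h.z1 this

theorem qd {T : Subgroup G} (hT : T = zpowers b ⊔ zpowers x ⊔ zpowers y) : IsQuasiDihedral T := by
  obtain ⟨m, hm2, hm, hmz⟩ := h.c_ord
  have hc : y * x ∈ T := hT ▸ mul_mem (mem_sup_right (mem_zpowers y))
    (mem_sup_left (mem_sup_right (mem_zpowers x)))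
  have hy : y ∈ T := hT ▸ mem_sup_right (mem_zpowers y)
  have hyn : y ∉ zpowers (y * x) := fun e => by
    rcases H5.eq_one_or_half hm e h.yy with e' | e'
    · exact h.ne_one_of_conj h.hy.2.1 e'
    · exact h.hy.2.2 (e'.trans hmz)
  have hn : y ∈ 𝐍(zpowers (y * x)) := mem_norm_zpowers (h.c_norm h.yS rfl)
  have e : T = zpowers (y * x) ⊔ zpowers y := by
    refine le_antisymm (hT ▸ sup_le (sup_le (h.b_le.trans le_sup_left) (zpowers_le.2 ?_))
      le_sup_right) (sup_le (zpowers_le.2 hc) (zpowers_le.2 hy))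
    simpa using mul_mem (inv_mem (mem_sup_right (S := zpowers (y * x)) (mem_zpowers y)))
      (mem_sup_left (mem_zpowers (y * x)))
  refine ⟨m + 1, by omega, ?_, ⟨_, hc⟩, ⟨y, hy⟩, ?_, ?_, Subtype.ext ?_⟩
  · rw [H41.card_eq_two_mul hyn (fun g => ?_), hm, ← pow_succ']
    rw [e, mem_sup_zp hn (by rw [h.yy]; exact one_mem _), mem_zpowers_iff, mem_zpowers_iff,
      ← exists_or]
    exact exists_congr fun i => or_congr eq_comm (by rw [eq_comm, mul_inv_eq_iff_eq_mul])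
  · rw [← Subgroup.orderOf_coe]; exact hm
  · rw [← Subgroup.orderOf_coe]
    exact orderOf_eq_prime (by rw [pow_two]; exact h.yy) (h.ne_one_of_conj h.hy.2.1)
  · change y * (y * x) * y⁻¹ = (y * x) ^ (2 ^ m - 1)
    rw [h.y_c, ← hmz, H5.inv_mul_half_eq_pow hm]

end CX

end H69.TM
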