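import Mathlib
import Cfsg.Agent.Base
import Cfsg.Agent.Lib.Term.StdE

/-! # Standard subgroups whose centralizer has cyclic Sylow 2-subgroups: the set-up -/

set_option autoImplicit false
set_option linter.unusedSectionVars false

namespace H69.TM

open Subgroup Cfsg H69 Gold H45
open scoped commutatorElement

universe u

variable {G : Type u} [Group G] [Finite G]

theorem eq_one_of_tight {K : Subgroup G} (hK : IsTightlyEmbedded K) {g t : G} (hg : g ∉ 𝐍(K))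
    (h1 : t ∈ K) (h2 : t ∈ K ^ᶜ g) (ht : El2 t) : t = 1 :=
  (oddS_iff.2 (hK.2 g hg)).eq_one (mem_inf.2 ⟨h1, h2⟩) ht

/-- The 2-local configuration arising when no conjugate of `⟨r⟩` outside `N(K)` normalizes `K`. -/
theorem exists_cf {K : Subgroup G} (hK : IsTightlyEmbedded K) {r : G}
    (hr : IsSylowIn 2 (zpowers r) K) (hO : Od (⊤ : Subgroup G) = ⊥) (hne : 𝐍(K) ≠ ⊤)
    (h3 : ∀ g, g ∉ 𝐍(K) → ¬ zpowers r ^ᶜ g ≤ 𝐍(K)) :
    ∃ S z u y, CF S z u ∧ Dz S z y ∧ S ⊓ K = zpowers r ∧ u ∈ K ∧ 𝐂[z] ≤ 𝐍(K) ∧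
      ∀ c ∈ zpowers r, c * c = 1 → c = 1 ∨ c = z := by
  have hr1 : r ≠ 1 := fun e => (hr.dvd_card_iff.1 hK.1.two_dvd) (by rw [e, zpowers_one_eq_bot])
  obtain ⟨m, hm⟩ := El2.exists_order' (El2.of_mem hr.isP (mem_zpowers r)) hr1
  set z := r ^ 2 ^ m with hz
  have hz1 : z ≠ 1 := H5.half_ne_one hm
  have hzz : z * z = 1 := H5.half_mul_self hm
  have hzr : z ∈ zpowers r := npow_mem_zpowers _ _
  have hzK := hr.le hzr
  have tight : ∀ g, g * z * g⁻¹ ∈ K → g ∈ 𝐍(K) := fun g hg => by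
    by_contra hn
    exact hz1 (by simpa using eq_one_of_tight hK hn hg (cj_mem g hzK) ((El2.of_mul_self hzz).conj g))
  have hC : 𝐂[z] ≤ 𝐍(K) := fun g hg => tight g (by
    rwa [mem_centralizer_singleton_iff.1 hg, mul_inv_cancel_right])
  obtain ⟨S, hS, hle⟩ := exists_isSylowIn_le hr.isP (hr.le.trans le_normalizer)
  have hSK : S ⊓ K = zpowers r :=
    hr.max _ (le_inf hle hr.le) inf_le_right hS.isP.to_inf_left
  have hS' : IsSylowIn 2 S ⊤ := by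
    refine isSylowIn_of_normalizer le_top (hS.mono (le_inf le_top le_normalizer) fun g hg => ?_)
    by_contra hn
    exact h3 g hn ((cj_le_of_mem_normalizer hle hg.2).trans hS.le)
  have hn : ∀ s ∈ S, ∀ c ∈ zpowers r, s * c * s⁻¹ ∈ zpowers r := fun s hs c hc =>
    hSK ▸ mem_inf.2 ⟨mul_mem (mul_mem hs (hle hc)) (inv_mem hs),
      conj_mem_of_mem_normalizer (hS.le hs) (hr.le hc)⟩
  have inv2 : ∀ c ∈ zpowers r, c * c = 1 → c = 1 ∨ c = z := fun c hc => H5.eq_one_or_half hm hc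
  have hSz : ∀ s ∈ S, s * z * s⁻¹ = z := fun s hs =>
    (inv2 _ (hn s hs z hzr) (by rw [conj_mul, hzz]; simp)).resolve_left (by simpa using hz1)
  have out : ∀ g, g * z * g⁻¹ ∈ S → g * z * g⁻¹ ≠ z → g ∉ 𝐍(K) := fun g h1 h2 hg =>
    h2 ((inv2 _ (hSK ▸ mem_inf.2 ⟨h1, conj_mem_of_mem_normalizer hg hzK⟩)
      (by rw [conj_mul, hzz]; simp)).resolve_left (by simpa using hz1))
  obtain ⟨g₀, hg₀, hg₀'⟩ : ∃ g, g * z * g⁻¹ ∈ S ∧ g * z * g⁻¹ ≠ z := by
    by_contra hc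
    push Not at hc
    refine hne (top_le_iff.1 fun g _ => hC ?_)
    have := zs _ ⊤ S hS' z (hle hzr) (fun g _ => hc g) g (mem_top g)
    rw [hO, mem_bot, commutatorElement_eq_one_iff_mul_comm] at this
    exact mem_centralizer_singleton_iff.2 this.symm
  obtain ⟨k, rfl⟩ : ∃ k, m = k + 1 := by
    rcases m with _ | k
    · refine absurd ?_ (h3 g₀ (out g₀ hg₀ hg₀'))
      rw [cj_zpowers]
      refine zpowers_le.2 (hS.le ?_)
      simpa [hz] using hg₀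
    · exact ⟨k, rfl⟩
  set u := r ^ 2 ^ k with hu
  have huu : u * u = z := by rw [hu, hz, ← pow_add, ← two_mul, ← pow_succ']
  have hur : u ∈ zpowers r := npow_mem_zpowers _ _
  have un : ∀ s ∈ S, s * u * s⁻¹ = u ∨ s * u * s⁻¹ = u⁻¹ := fun s hs => by
    have h1 := hn s hs u hur
    have h2 : s * u * s⁻¹ * (s * u * s⁻¹) = z := by rw [conj_mul, huu, hSz s hs]
    generalize s * u * s⁻¹ = v at h1 h2
    rcases inv2 (v * u) (mul_mem h1 hur) (by
      rw [mul_assoc, ← mul_assoc u, zp_comm hur h1, mul_assoc, huu, ← mul_assoc, h2, hzz]) with e | e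
    · exact Or.inr (eq_inv_of_mul_eq_one_left e)
    · exact Or.inl (mul_right_cancel (e.trans huu.symm))
  refine ⟨S, z, u, g₀ * z * g₀⁻¹, ⟨hS', hle hur, huu, hz1, hzz, un, ?_⟩,
    ⟨hg₀, isConj_iff.2 ⟨g₀, rfl⟩, hg₀'⟩, hSK, hr.le hur, hC, inv2⟩
  rintro d ⟨hd, hc, hdz⟩
  obtain ⟨g, rfl⟩ := isConj_iff.1 hc
  refine (un _ hd).resolve_left fun e => ?_
  set d := g * z * g⁻¹ with hd'
  have h1 : zpowers u ≤ 𝐂[d] :=
    zpowers_le.2 (mem_centralizer_singleton_iff.2 (mul_inv_eq_iff_eq_mul.1 e).symm)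
  have h2 : IsSylowIn 2 (S ^ᶜ g) 𝐂[d] := by
    refine (hS'.cj g).mono ?_ (by rw [cj_top]; exact le_top)
    rw [hd', ← cj_centralizer_singleton]
    exact cj_mono g fun s hs =>
      mem_centralizer_singleton_iff.2 (mul_inv_eq_iff_eq_mul.1 (hSz s hs))
  obtain ⟨c, hc', h4⟩ := h2.exists_le_cj (El2.of_mem hr.isP hur).isPGroup h1
  rw [cj_cj] at h4
  have e1 : c * g * z * (c * g)⁻¹ = d := by
    calc c * g * z * (c * g)⁻¹ = c * d * c⁻¹ := by rw [hd']; group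
      _ = d := by rw [mem_centralizer_singleton_iff.1 hc', mul_inv_cancel_right]
  have hg := out (c * g) (by rwa [e1]) (by rwa [e1])
  set a := c * g
  have hua : a⁻¹ * u * a ∈ S := mem_cj.1 (h4 (mem_zpowers u))
  refine h3 a hg (fun q hq => hC ?_)
  have hn' : ∀ q ∈ zpowers r ^ᶜ a, u * q * u⁻¹ ∈ zpowers r ^ᶜ a := fun q hq => by
    have := hn _ hua _ (mem_cj.1 hq)
    rw [mem_cj]
    simpa [mul_assoc] using this
  have hP := isPGroup_cj hr.isP a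
  refine El2.induction (P := fun q => q ∈ zpowers r ^ᶜ a → q ∈ 𝐂[z]) (fun _ => one_mem _)
    (fun q _ ih hq => ?_) (El2.of_mem hP hq) hq
  have h5 := ih (mul_mem hq hq)
  have h6 : u * (q * q) * u⁻¹ * (q * q)⁻¹ = 1 := by
    have hm' := mul_mem (hn' _ (mul_mem hq hq)) (inv_mem (mul_mem hq hq))
    refine eq_one_of_tight hK hg ?_ (cj_mono a hr.le hm') (El2.of_mem hP hm')
    have := mul_mem (hr.le hur) (conj_mem_of_mem_normalizer (hC h5) (inv_mem (hr.le hur)))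
    simpa [mul_assoc] using this
  have hcm : ∀ p ∈ zpowers r ^ᶜ a, ∀ p' ∈ zpowers r ^ᶜ a, p * p' = p' * p := fun p hp p' hp' => by
    rw [cj_zpowers] at hp hp'; exact zp_comm hp hp'
  have h7 := mul_mem (inv_mem hq) (hn' q hq)
  set f := q⁻¹ * (u * q * u⁻¹) with hf
  have h8 : f * f = 1 := by
    calc f * f = q⁻¹ * (u * q * u⁻¹ * q⁻¹) * (u * q * u⁻¹) := by rw [hf]; group
      _ = (q * q)⁻¹ * (u * (q * q) * u⁻¹ * (q * q)⁻¹) * (q * q) := by
        rw [hcm _ (hn' q hq) _ (inv_mem hq)]; group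
      _ = 1 := by rw [h6]; group
  have h9 : u * f * u⁻¹ = f := by
    rcases inv2 _ (mem_cj.1 h7) (by
      calc a⁻¹ * f * a * (a⁻¹ * f * a) = a⁻¹ * (f * f) * a := by group
        _ = 1 := by rw [h8]; group) with e' | e'
    · have : f = 1 := by simpa [mul_assoc] using congrArg (fun t => a * t * a⁻¹) e'
      rw [this]; group
    · have : f = d := by rw [← e1, ← e']; group
      rw [this, ← (mul_inv_eq_iff_eq_mul.1 e), mul_inv_cancel_right]
  rw [mem_centralizer_singleton_iff, eq_comm, ← mul_inv_eq_iff_eq_mul, ← huu]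
  have e2 : u * q * u⁻¹ = q * f := by rw [hf]; group
  calc u * u * q * (u * u)⁻¹ = u * (u * q * u⁻¹) * u⁻¹ := by group
    _ = q := by rw [e2, ← conj_mul, e2, h9, mul_assoc, h8, mul_one]

theorem exists_cx {A : Subgroup G} (hA : IsStandardSubgroup A) {r : G}
    (hr : IsSylowIn 2 (zpowers r) 𝐂(A)) (hO : Od (⊤ : Subgroup G) = ⊥) (hne : ¬ A.Normal)
    (h3 : ∀ g, g ∉ 𝐍(A) → ¬ zpowers r ^ᶜ g ≤ 𝐍(A)) : ∃ S z u y b w x, CX S A z u y b w x := by
  have e := hA.2.2.2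
  obtain ⟨S, z, u, y, h, hy, hS, hu, hC, hi⟩ := exists_cf hA.2.1 hr hO
    (fun e' => hne (normal_iff_top_le_normalizer.2 (by rw [e, e']))) (by rw [← e]; exact h3)
  obtain ⟨b, hb⟩ := h.exists_b hy
  have h1 : CA S A z u y b := ⟨h, hy, hb, hA.1, e ▸ hC, hu,
    fun c hc hc' => hi c (hS ▸ mem_inf.2 ⟨hc, hc'⟩),
    fun c hc hc' => zp_comm (b := r) (hS ▸ mem_inf.2 ⟨hc, hc'⟩) (hS ▸ mem_inf.2 ⟨h.uS, hu⟩)⟩
  obtain ⟨hz, w, h2, h3, h4, h5⟩ := h1.exists_w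
  have h6 : CW S A z u y b w := ⟨h1, hz, h2, h3, h4, h5⟩
  obtain ⟨x, h7, h8⟩ := h6.exists_x
  exact ⟨S, z, u, y, b, w, x, h6, h7, h8⟩

end H69.TM
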